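import Cfsg.Agent.H16.NunLarge
import Cfsg.Agent.QTNorm.SporBase
import Cfsg.Agent.H848.MonsterSetup
import Cfsg.Agent.MonsterU.AmalElts
import Cfsg.Agent.KFacts.Baby.RowB_m3
import Cfsg.Agent.Schreier.CoTwoStab
import Cfsg.Agent.H208.SelfCoOne
import Cfsg.Agent.Prune
set_option linter.all false

-- part: H768/Pron/SelfBM
section
set_option linter.all false
open scoped Cfsg.Agent.FastGrp

-- part: H768/Pron/SelfLarge
section
/-!
# Self-normalising Sylow 2-subgroups from a large extraspecial subgroup (S2527, helper768)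

`selfN_of_large`: `Q` a large extraspecial subgroup with centre `⟨z⟩`, `C(z)` of odd index, `C(z)/Q` with self-normalising
Sylow 2-subgroups. Then the Sylow 2-subgroups of `G` are self-normalising.
-/

set_option autoImplicit false

namespace Cfsg.Agent.H768.Pron

open Subgroup Cfsg Cfsg.Agent.Co2Type.Quad Cfsg.Agent.KFacts.LargeO2 Cfsg.Agent.QTNorm

universe u v

variable {G : Type u} [Group G] {Q : Subgroup G} {z : G} {L : Type v} [Group L]

/-- `N(S) = S` from a large extraspecial subgroup. -/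
theorem selfN_of_large [Finite G] (h : Large Q z) (hodd : ¬ 2 ∣ (centralizer ({z} : Set G)).index)
    (π : centralizer ({z} : Set G) →* L) (hs : Function.Surjective π) (hk : ∀ c, π c = 1 → (c : G) ∈ Q)
    (hL : SelfN L) : SelfN G := by
  have hp2 : Fact (Nat.Prime 2) := ⟨Nat.prime_two⟩
  have hQ2 := H16.NunLarge.isPGroup_Q h
  obtain ⟨S, hS1, hS2⟩ := H16.NunLarge.exists_sylow_between hodd hQ2
    (fun w hw => mem_centralizer_singleton_iff.2 (h.comm_z w hw))
  have hSc : ∀ x ∈ (S : Subgroup G), x * z = z * x := fun x hx => mem_centralizer_singleton_iff.1 (hS2 hx)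
  have hzS : z ∈ (S : Subgroup G) := hS1 h.z_mem
  have hZ : ∀ t ∈ (S : Subgroup G), (∀ x ∈ (S : Subgroup G), x * t = t * x) → t = 1 ∨ t = z := by
    intro t _ ht
    have htz := (ht z hzS).symm
    have htQ : ∀ x ∈ Q, t * x = x * t := fun x hx => (ht x (hS1 hx)).symm
    exact h.cent t (h.self t htz htQ) htQ
  have hSz : normalizer ((S : Subgroup G) : Set G) ≤ centralizer ({z} : Set G) :=
    UniqSheet.normalizer_le_centralizer h.z_ne hzS hSc hZ
  refine SelfN.of_one S (self_of_hom S _ hSz π hs (fun c hc => ?_) hL)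
  obtain ⟨k, hk'⟩ := hQ2 ⟨(c : G), hk c hc⟩
  have h2 : (c : G) ^ 2 ^ k = 1 := congrArg Subtype.val hk'
  exact ⟨k, Subtype.ext h2⟩

end Cfsg.Agent.H768.Pron
end

-- part: H768/Pron/SelfBM
section
/-!
# Self-normalising Sylow 2-subgroups of the Monster and the Baby Monster (S2527-BM, helper768)

`selfN_m_of`, `selfN_b_of`: from the same property of `Co1` and `Co2`.
-/

set_option autoImplicit false

namespace Cfsg.Agent.H768.Pron

open Cfsg Cfsg.Agent.QTNorm Cfsg.Agent.BabyM Cfsg.Agent.BabyM.Model Cfsg.Agent.BabyU.ClosModel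
open Cfsg.Agent.BabyU.ClosLane

universe u

/-- **The Monster.** -/
theorem selfN_m_of (hL : SelfN Spor.Co1) {K : Type u} [Group K] [Finite K] (h : Spor.IsoM K) : SelfN K := by
  obtain ⟨e⟩ := h
  have := Cfsg.Agent.H848.MonsterSetup.finite
  obtain ⟨Q, z, eta, pi, y, τ, h, hy, hf, h1, h2⟩ := Cfsg.Agent.H848.MonsterSetup.exists_setup
  refine SelfN.congr e.symm (selfN_of_large h.large ?_ pi h.pi_surj (fun c hc => (h.pi_eq_one c).1 hc) hL)
  intro hd
  have h3 := (Subgroup.centralizer ({z} : Set Spor.Monster)).card_mul_index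
  rw [Cfsg.Agent.H848.MonsterSetup.card, Cfsg.Agent.MonsterU.AmalElts.card_centralizer h] at h3
  obtain ⟨k, hk⟩ := hd
  rw [hk] at h3
  omega

/-- **The Baby Monster.** -/
theorem selfN_b_of (hL : SelfN Spor.Co2) {K : Type u} [Group K] [Finite K] (h : Spor.IsoB K) : SelfN K := by
  have := A.finite_G
  have hs : IsSimpleGroup Spor.BabyMonster := Cfsg.Agent.KFacts.Baby.RowB.simple_B
  have hK : IsSimpleGroup K := h.some.isSimpleGroup_congr.2 hs
  obtain ⟨e⟩ := KFacts.Baby.Sheet.exists_iso_of_isoB h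
  obtain ⟨π, hπs, hπ⟩ := KFacts.Baby.Inst.quot A
  obtain ⟨f⟩ := Schreier.CoTwoStab.exists_equiv Co2GenStd.l₀ GroupInst.dt_l₀
  have : Finite Spor.Co2 := Schreier.CoTwoStab.finite
  have hK₀ : SelfN GroupInst.K₀ := SelfN.congr f.symm hL
  refine SelfN.congr e (selfN_of_large (KFacts.Baby.Inst.large A) ?_ π hπs (fun c hc => (hπ c).1 hc) hK₀)
  exact (KFacts.Baby.Inst.odd_index A).not_two_dvd_nat

end Cfsg.Agent.H768.Pron
end
end

-- part: H768/Pron/SelfM
section
set_option linter.all false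

/-!
# The Sylow 2-subgroups of the Monster are self-normalizing (helper768)
-/

set_option autoImplicit false

universe u

namespace Cfsg.Agent.H768.Pron

open Cfsg Cfsg.Agent.QTNorm

/-- **The Monster.** -/
theorem selfN_m {K : Type u} [Group K] [Finite K] (h : Spor.IsoM K) : SelfN K :=
  selfN_m_of Cfsg.Agent.H208.SelfCoOne.selfN h

end Cfsg.Agent.H768.Pron
end
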